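import Groth.Agent.FlatOpen.GenFreeDomain
import Groth.Agent.FlatOpen.Descend
import Groth.Agent.NilFree.Basic
import Mathlib.RingTheory.Ideal.MinimalPrime.Noetherian

/-!
# Free strata of flat presented modules over a Noetherian base
-/

set_option autoImplicit false
set_option linter.style.haveILetI false

universe u

open TensorProduct Function
open Groth.Agent.FlatOpen

namespace Groth.Agent.FreeStrat

variable {R : Type u} [CommRing R]

theorem free_of_flat_of_free_quotient {M : Type u} [AddCommGroup M] [Module R M] [Module.Flat R M]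
    (I : Ideal R) (hI : IsNilpotent I) (h : Module.Free (R ⧸ I) ((R ⧸ I) ⊗[R] M)) : Module.Free R M := by
  obtain ⟨ι, φ, hs, hk⟩ := NilFree.exists_presentation I hI h
  exact Module.Free.of_equiv
    (LinearEquiv.ofBijective φ ⟨NilFree.injective_of_ker_le_smul_of_flat φ hs hI hk, hs⟩)

variable [IsNoetherianRing R]

/-- Near a minimal prime `P` over `J`, some power of `P` lies in `J`. -/
theorem exists_mul_pow_le (J P : Ideal R) [P.IsPrime] (hP : P ∈ J.minimalPrimes) :
    ∃ h ∉ P, ∃ k : ℕ, ∀ x ∈ P ^ k, h * x ∈ J := by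
  classical
  have fin : J.minimalPrimes.Finite := Ideal.finite_minimalPrimes_of_isNoetherianRing R J
  let s := fin.toFinset.erase P
  have hch : ∀ Q ∈ s, ∃ a ∈ Q, a ∉ P := by
    intro Q hQ
    obtain ⟨hne, hQ⟩ := Finset.mem_erase.1 hQ
    rw [Set.Finite.mem_toFinset] at hQ
    by_contra hc
    push Not at hc
    exact hne (le_antisymm hc (hP.2 hQ.1 hc))
  choose! a haQ haP using hch
  have hh : ∏ Q ∈ s, a Q ∉ P := fun hm => by
    obtain ⟨Q, hQ, hQm⟩ := Ideal.IsPrime.prod_mem_iff.1 hm
    exact haP Q hQ hQm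
  obtain ⟨k, hk⟩ := Ideal.exists_radical_pow_le_of_fg J (IsNoetherian.noetherian _)
  have hle : Ideal.span {∏ Q ∈ s, a Q} * P ≤ J.radical := by
    rw [← Ideal.sInf_minimalPrimes, le_sInf_iff]
    intro Q hQ
    by_cases hQP : Q = P
    · exact hQP ▸ Ideal.mul_le_right
    · have hQs : Q ∈ s := Finset.mem_erase.2 ⟨hQP, by rwa [Set.Finite.mem_toFinset]⟩
      refine Ideal.mul_le_left.trans ((Ideal.span_singleton_le_iff_mem _).2 ?_)
      exact Ideal.mem_of_dvd _ (Finset.dvd_prod_of_mem a hQs) (haQ Q hQs)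
  refine ⟨(∏ Q ∈ s, a Q) ^ k, fun hm => hh (Ideal.IsPrime.mem_of_pow_mem inferInstance k hm), k,
    fun x hx => hk (Ideal.pow_right_mono hle k ?_)⟩
  rw [mul_pow, Ideal.span_singleton_pow]
  exact Ideal.mul_mem_mul (Ideal.subset_span rfl) hx

variable {n r : ℕ} (Z : Submodule (MvPolynomial (Fin n) R) (Vec n r R))

set_option maxHeartbeats 1600000 in
/-- A flat presented module is free near each minimal prime `P` of `J`, on the stratum `V(J)`. -/
theorem exists_free_at_minimal [Module.Flat R (Vec n r R ⧸ Z)] (J P : Ideal R) [P.IsPrime]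
    (hP : P ∈ J.minimalPrimes) :
    ∃ f ∉ P, ∀ (A : Type u) [CommRing A] [Algebra R A], IsUnit (algebraMap R A f) →
      J.map (algebraMap R A) = ⊥ → Module.Free A (A ⊗[R] (Vec n r R ⧸ Z)) := by
  classical
  obtain ⟨h, hh, k, hk⟩ := exists_mul_pow_le J P hP
  let N := Vec n r R ⧸ Z
  let D := R ⧸ P
  obtain ⟨g, hg, hfree, -⟩ := exists_genFree D (MvPolynomial (Fin n) D) (Quot D Z)
  let Dg := Localization.Away g
  haveI hN : Module.Free Dg (Dg ⊗[R] N) :=
    Module.Free.of_equiv ((AlgebraTensorModule.congr (LinearEquiv.refl Dg Dg) (quotEquiv D Z).symm).trans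
      (AlgebraTensorModule.cancelBaseChange R D Dg Dg N))
  obtain ⟨g₀, hg₀⟩ := Ideal.Quotient.mk_surjective g
  have hg₀P : g₀ ∉ P := fun hm => hg (by rw [← hg₀, Ideal.Quotient.eq_zero_iff_mem]; exact hm)
  refine ⟨h * g₀, fun hm => ((Ideal.IsPrime.mem_or_mem inferInstance hm).elim hh hg₀P), ?_⟩
  intro A _ _ hu hJ
  rw [map_mul, IsUnit.mul_iff] at hu
  let I : Ideal A := P.map (algebraMap R A)
  have hI : IsNilpotent I := ⟨k, by
    rw [← Ideal.map_pow, Ideal.zero_eq_bot, eq_bot_iff, Ideal.map_le_iff_le_comap]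
    intro x hx
    have h0 : algebraMap R A (h * x) = 0 :=
      (Submodule.mem_bot A).1 (hJ ▸ Ideal.mem_map_of_mem (algebraMap R A) (hk x hx))
    rw [map_mul] at h0
    exact (Submodule.mem_bot A).2 (hu.1.mul_right_eq_zero.1 h0)⟩
  haveI : Module.Flat A (A ⊗[R] N) := inferInstance
  refine free_of_flat_of_free_quotient I hI ?_
  letI : Algebra D (A ⧸ I) := (Ideal.Quotient.lift P ((Ideal.Quotient.mk I).comp (algebraMap R A))
    fun x hx => Ideal.Quotient.eq_zero_iff_mem.2 (Ideal.mem_map_of_mem _ hx)).toAlgebra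
  haveI : IsScalarTower R D (A ⧸ I) := IsScalarTower.of_algebraMap_eq' rfl
  have hu' : IsUnit (algebraMap D (A ⧸ I) g) := by
    rw [← hg₀]
    exact hu.2.map (Ideal.Quotient.mk I)
  let φ : Dg →+* A ⧸ I := IsLocalization.Away.lift g hu'
  letI : Algebra Dg (A ⧸ I) := φ.toAlgebra
  haveI : IsScalarTower R Dg (A ⧸ I) := IsScalarTower.of_algebraMap_eq fun x => by
    rw [RingHom.algebraMap_toAlgebra, IsScalarTower.algebraMap_apply R D Dg,
      IsLocalization.Away.lift_eq, ← IsScalarTower.algebraMap_apply]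
  exact Module.Free.of_equiv ((AlgebraTensorModule.cancelBaseChange R Dg (A ⧸ I) (A ⧸ I) N).trans
    (AlgebraTensorModule.cancelBaseChange R A (A ⧸ I) (A ⧸ I) N).symm)

/-- A flat presented module has a principal stratification with free restrictions. -/
theorem exists_stratification [Module.Flat R (Vec n r R ⧸ Z)] (J : Ideal R) :
    ∃ l : List R, J ⊔ Ideal.span {a | a ∈ l} = ⊤ ∧
      ∀ (i : ℕ) (hi : i < l.length) (A : Type u) [CommRing A] [Algebra R A],
        IsUnit (algebraMap R A l[i]) → (J ⊔ Ideal.span {a | a ∈ l.take i}).map (algebraMap R A) = ⊥ →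
        Module.Free A (A ⊗[R] (Vec n r R ⧸ Z)) := by
  induction J using IsNoetherian.induction with
  | hgt J ih =>
    by_cases hJ : J = ⊤
    · exact ⟨[], by simp [hJ], fun i hi => absurd hi (by simp)⟩
    obtain ⟨P, hP⟩ := Ideal.nonempty_minimalPrimes hJ
    haveI := hP.1.1
    obtain ⟨f, hf, hfree⟩ := exists_free_at_minimal Z J P hP
    have hlt : J < J ⊔ Ideal.span {f} := lt_of_le_of_ne le_sup_left fun he => hf (hP.1.2
      (he ▸ Ideal.mem_sup_right (Ideal.subset_span rfl)))
    obtain ⟨l, hl, hl'⟩ := ih _ hlt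
    have hcons : ∀ m : List R, J ⊔ Ideal.span {a | a ∈ f :: m} = (J ⊔ Ideal.span {f}) ⊔ Ideal.span {a | a ∈ m} := by
      intro m
      rw [sup_assoc, ← Ideal.span_union]
      congr 2
      ext a
      simp
    refine ⟨f :: l, (hcons l).trans hl, fun i => ?_⟩
    cases i with
    | zero =>
      intro _ A _ _ hu hbot
      refine hfree A hu ?_
      simpa using hbot
    | succ i =>
      intro hi A _ _ hu hbot
      refine hl' i (by simpa using hi) A hu ?_
      rw [← hcons]
      exact hbot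

end Groth.Agent.FreeStrat
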